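import Cfsg.Agent.Lib.Helper35.Fi22a.PData

namespace Cfsg.Agent.Lib.Helper35.Fi22a

open Cfsg.Agent.Lib.Helper35

theorem rc0 : allBelow (fun k => fr (Nat.add 0 k)) 453 = true := by decide +kernel
theorem ru0 : ∀ i, i < 453 → fr i = true := below_step fr 0 453 453 (below_zero fr) rc0 rfl
theorem rc1 : allBelow (fun k => fr (Nat.add 453 k)) 453 = true := by decide +kernel
theorem ru1 : ∀ i, i < 906 → fr i = true := below_step fr 453 453 906 ru0 rc1 rfl
theorem rc2 : allBelow (fun k => fr (Nat.add 906 k)) 453 = true := by decide +kernel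
theorem ru2 : ∀ i, i < 1359 → fr i = true := below_step fr 906 453 1359 ru1 rc2 rfl
theorem rc3 : allBelow (fun k => fr (Nat.add 1359 k)) 453 = true := by decide +kernel
theorem ru3 : ∀ i, i < 1812 → fr i = true := below_step fr 1359 453 1812 ru2 rc3 rfl
theorem rc4 : allBelow (fun k => fr (Nat.add 1812 k)) 453 = true := by decide +kernel
theorem ru4 : ∀ i, i < 2265 → fr i = true := below_step fr 1812 453 2265 ru3 rc4 rfl
theorem rc5 : allBelow (fun k => fr (Nat.add 2265 k)) 453 = true := by decide +kernel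
theorem ru5 : ∀ i, i < 2718 → fr i = true := below_step fr 2265 453 2718 ru4 rc5 rfl
theorem rc6 : allBelow (fun k => fr (Nat.add 2718 k)) 453 = true := by decide +kernel
theorem ru6 : ∀ i, i < 3171 → fr i = true := below_step fr 2718 453 3171 ru5 rc6 rfl
theorem rc7 : allBelow (fun k => fr (Nat.add 3171 k)) 339 = true := by decide +kernel
theorem ru7 : ∀ i, i < 3510 → fr i = true := below_step fr 3171 339 3510 ru6 rc7 rfl
theorem c0c0 : allBelow (fun k => fc0 (Nat.add 0 k)) 3510 = true := by decide +kernel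
theorem c0u0 : ∀ i, i < 3510 → fc0 i = true := below_step fc0 0 3510 3510 (below_zero fc0) c0c0 rfl
theorem c1c0 : allBelow (fun k => fc1 (Nat.add 0 k)) 3510 = true := by decide +kernel
theorem c1u0 : ∀ i, i < 3510 → fc1 i = true := below_step fc1 0 3510 3510 (below_zero fc1) c1c0 rfl
theorem c2c0 : allBelow (fun k => fc2 (Nat.add 0 k)) 3510 = true := by decide +kernel
theorem c2u0 : ∀ i, i < 3510 → fc2 i = true := below_step fc2 0 3510 3510 (below_zero fc2) c2c0 rfl
theorem c3c0 : allBelow (fun k => fc3 (Nat.add 0 k)) 3510 = true := by decide +kernel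
theorem c3u0 : ∀ i, i < 3510 → fc3 i = true := below_step fc3 0 3510 3510 (below_zero fc3) c3c0 rfl
theorem c4c0 : allBelow (fun k => fc4 (Nat.add 0 k)) 3510 = true := by decide +kernel
theorem c4u0 : ∀ i, i < 3510 → fc4 i = true := below_step fc4 0 3510 3510 (below_zero fc4) c4c0 rfl
theorem c5c0 : allBelow (fun k => fc5 (Nat.add 0 k)) 3510 = true := by decide +kernel
theorem c5u0 : ∀ i, i < 3510 → fc5 i = true := below_step fc5 0 3510 3510 (below_zero fc5) c5c0 rfl
theorem c6c0 : allBelow (fun k => fc6 (Nat.add 0 k)) 3510 = true := by decide +kernel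
theorem c6u0 : ∀ i, i < 3510 → fc6 i = true := below_step fc6 0 3510 3510 (below_zero fc6) c6c0 rfl
theorem c7c0 : allBelow (fun k => fc7 (Nat.add 0 k)) 3510 = true := by decide +kernel
theorem c7u0 : ∀ i, i < 3510 → fc7 i = true := below_step fc7 0 3510 3510 (below_zero fc7) c7c0 rfl
theorem c8c0 : allBelow (fun k => fc8 (Nat.add 0 k)) 3510 = true := by decide +kernel
theorem c8u0 : ∀ i, i < 3510 → fc8 i = true := below_step fc8 0 3510 3510 (below_zero fc8) c8c0 rfl
theorem tc0 : allBelow (fun k => ft (Nat.add (Nat.succ 0) k)) 3509 = true := by decide +kernel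
theorem tu0 : ∀ v, 1 ≤ v → v ≤ 3509 → ft v = true := slots_step ft 0 3509 3509 (slots_zero ft) tc0 rfl
theorem oc0 : allBelow (fun k => fo (Nat.add 0 k)) 1522 = true := by decide +kernel
theorem ou0 : ∀ i, i < 1522 → fo i = true := below_step fo 0 1522 1522 (below_zero fo) oc0 rfl
theorem oc1 : allBelow (fun k => fo (Nat.add 1522 k)) 1522 = true := by decide +kernel
theorem ou1 : ∀ i, i < 3044 → fo i = true := below_step fo 1522 1522 3044 ou0 oc1 rfl
theorem oc2 : allBelow (fun k => fo (Nat.add 3044 k)) 466 = true := by decide +kernel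
theorem ou2 : ∀ i, i < 3510 → fo i = true := below_step fo 3044 466 3510 ou1 oc2 rfl
theorem l0z : countBelow fl0 0 = 0 := rfl
theorem l0k0 : countBelow (fun k => fl0 (Nat.add 0 k)) 3510 = 1 := by decide +kernel
theorem l0n0 : countBelow fl0 3510 = 1 := countBelow_step fl0 0 3510 3510 0 1 1 l0z l0k0 rfl rfl
theorem l1z : countBelow fl1 0 = 0 := rfl
theorem l1k0 : countBelow (fun k => fl1 (Nat.add 0 k)) 3510 = 2816 := by decide +kernel
theorem l1n0 : countBelow fl1 3510 = 2816 := countBelow_step fl1 0 3510 3510 0 2816 2816 l1z l1k0 rfl rfl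
theorem l2z : countBelow fl2 0 = 0 := rfl
theorem l2k0 : countBelow (fun k => fl2 (Nat.add 0 k)) 3510 = 693 := by decide +kernel
theorem l2n0 : countBelow fl2 3510 = 693 := countBelow_step fl2 0 3510 3510 0 693 693 l2z l2k0 rfl rfl

end Cfsg.Agent.Lib.Helper35.Fi22a
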